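import Mathlib

/-!
# A computable field with four elements
-/

set_option autoImplicit false

namespace CfsgLib.G2Four

/-- The elements `0, 1, ω, ω + 1`. -/
inductive Q : Type
  | z | e | a | b
deriving DecidableEq

namespace Q

/-- Addition. -/
def add : Q → Q → Q
  | .z, y => y
  | x, .z => x
  | .e, .e => .z
  | .e, .a => .b
  | .e, .b => .a
  | .a, .e => .b
  | .a, .a => .z
  | .a, .b => .e
  | .b, .e => .a
  | .b, .a => .e
  | .b, .b => .z

/-- Multiplication. -/
def mul : Q → Q → Q
  | .z, _ => .z
  | _, .z => .z
  | .e, y => y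
  | x, .e => x
  | .a, .a => .b
  | .a, .b => .e
  | .b, .a => .e
  | .b, .b => .a

/-- Inversion. -/
def inv : Q → Q
  | .z => .z
  | .e => .e
  | .a => .b
  | .b => .a

instance instFintypeQ : Fintype Q := ⟨{.z, .e, .a, .b}, fun x => by cases x <;> decide⟩

instance instAddQ : Add Q := ⟨add⟩

instance instMulQ : Mul Q := ⟨mul⟩

instance instZeroQ : Zero Q := ⟨.z⟩

instance instOneQ : One Q := ⟨.e⟩

instance instNegQ : Neg Q := ⟨id⟩

instance instInvQ : Inv Q := ⟨inv⟩

instance instFieldQ : Field Q where
  add_assoc := by decide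
  zero_add := by decide
  add_zero := by decide
  add_comm := by decide
  neg_add_cancel := by decide
  mul_assoc := by decide
  one_mul := by decide
  mul_one := by decide
  left_distrib := by decide
  right_distrib := by decide
  zero_mul := by decide
  mul_zero := by decide
  mul_comm := by decide
  exists_pair_ne := ⟨.z, .e, by decide⟩
  mul_inv_cancel := by decide
  inv_zero := rfl
  nsmul := nsmulRec
  nsmul_zero := fun _ => rfl
  nsmul_succ := fun _ _ => rfl
  zsmul := zsmulRec
  zsmul_zero' := fun _ => rfl
  zsmul_succ' := fun _ _ => rfl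
  zsmul_neg' := fun _ _ => rfl
  nnqsmul := _
  nnqsmul_def := fun _ _ => rfl
  qsmul := _
  qsmul_def := fun _ _ => rfl

theorem card_eq : Fintype.card Q = 4 := rfl

end Q

end CfsgLib.G2Four
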