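import Cfsg.Agent.G2Four.Rep
import Cfsg.Agent.Chev.FieldMap
import Cfsg.Agent.S1059

/-!
# Extensions of `G₂(4)` by multiples of its six-dimensional module keep the prime graph
-/

set_option autoImplicit false
set_option maxRecDepth 100000

namespace CfsgLib.G2Four

open Cfsg.Lie CfsgLib.Chev Matrix

/-- The same prime graph. -/
def SameGraph (A B : Type*) [Group A] [Group B] : Prop :=
  (∀ p : ℕ, p.Prime → (p ∣ Nat.card A ↔ p ∣ Nat.card B)) ∧
    ∀ p q : ℕ, p.Prime → q.Prime → p ≠ q → ((∃ g : A, orderOf g = p * q) ↔ ∃ g : B, orderOf g = p * q)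

theorem card_L : Nat.card ↥(chevG2.group Q) = 251596800 := by
  rw [Cfsg.Agent.S1059.result Q.card_eq]; norm_num

theorem psi_injective : Function.Injective psi := by
  haveI : IsSimpleGroup ↥(chevG2.group Q) :=
    (sysG2.simple_noncomm (F := Q) (sysG2.perfect_big perfBig_G2 ⟨Q.a, by decide, by decide⟩) connOK_G2
      (by decide +kernel)).1
  rcases IsSimpleGroup.eq_bot_or_eq_top_of_normal psi.ker inferInstance with h | h
  · exact (MonoidHom.ker_eq_bot_iff psi).1 h
  · exfalso
    have h1 : psi (elt w13) = 1 := MonoidHom.mem_ker.1 (h ▸ Subgroup.mem_top _)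
    have h2 := psi_elt (w := w13) (by decide)
    rw [h1, Units.val_one] at h2
    exact absurd h2 (by decide +kernel)

/-- The matrix of a word. -/
def wm (w : List (ℕ × Q)) : M6 := (w.map fun p => mr p.1 p.2).prod

/-- Multiplication by a matrix, iterated. -/
def pw (A : M6) : ℕ → M6
  | 0 => 1
  | n + 1 => pw A n * A

theorem pw_eq (A : M6) (n : ℕ) : pw A n = A ^ n := by
  induction n with
  | zero => rfl
  | succ n ih => rw [pw, ih, pow_succ]

theorem pow_eq_one_iff {w : List (ℕ × Q)} (hw : ∀ p ∈ w, p.1 < 12) (n : ℕ) :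
    elt w ^ n = 1 ↔ pw (wm w) n = 1 := by
  rw [pw_eq, ← psi_injective.eq_iff, map_pow, map_one, Units.ext_iff, Units.val_pow_eq_pow_val, psi_elt hw,
    Units.val_one, wm]

theorem order13 : orderOf (elt w13) = 13 := by
  haveI : Fact (Nat.Prime 13) := ⟨by norm_num⟩
  refine orderOf_eq_prime ((pow_eq_one_iff (w := w13) (by decide) 13).2 (by decide +kernel)) fun h => ?_
  exact absurd ((pow_eq_one_iff (w := w13) (by decide) 1).1 (by rw [pow_one, h])) (by decide +kernel)

theorem order7 : orderOf (elt w7) = 7 := by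
  haveI : Fact (Nat.Prime 7) := ⟨by norm_num⟩
  refine orderOf_eq_prime ((pow_eq_one_iff (w := w7) (by decide) 7).2 (by decide +kernel)) fun h => ?_
  exact absurd ((pow_eq_one_iff (w := w7) (by decide) 1).1 (by rw [pow_one, h])) (by decide +kernel)

theorem order_w6 : orderOf (elt w6) = 6 := by
  have key : ∀ m < 6, 0 < m → pw (wm w6) m ≠ 1 := by decide +kernel
  exact (orderOf_eq_iff (by norm_num)).2 ⟨(pow_eq_one_iff (by decide) 6).2 (by decide +kernel),
    fun m hm h0 h => key m hm h0 ((pow_eq_one_iff (by decide) m).1 h)⟩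

theorem order_w10 : orderOf (elt w10) = 10 := by
  have key : ∀ m < 10, 0 < m → pw (wm w10) m ≠ 1 := by decide +kernel
  exact (orderOf_eq_iff (by norm_num)).2 ⟨(pow_eq_one_iff (by decide) 10).2 (by decide +kernel),
    fun m hm h0 h => key m hm h0 ((pow_eq_one_iff (by decide) m).1 h)⟩

/-- An element of order `p` has no fixed vector when a given one has none and `p²` does not divide the order. -/
theorem fpf {p : ℕ} [hp : Fact p.Prime] (hdvd : ¬ p ^ 2 ∣ 251596800) {w : List (ℕ × Q)} (hw : ∀ q ∈ w, q.1 < 12)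
    (ho : orderOf (elt w) = p) {R : M6} (hR : R * (wm w - 1) = 1) {g : ↥(chevG2.group Q)} (hg : orderOf g = p)
    {v : Fin 6 → Q} (hv : (psi g : M6) *ᵥ v = v) : v = 0 := by
  have key : ∀ x : ↥(chevG2.group Q), orderOf x = p → ∃ P : Sylow p ↥(chevG2.group Q),
      (P : Subgroup _) = Subgroup.zpowers x := fun x hx => by
    refine ⟨Sylow.ofCard (Subgroup.zpowers x) ?_, rfl⟩
    have hd : p ∣ Nat.card ↥(chevG2.group Q) := hx ▸ orderOf_dvd_natCard x
    rw [Nat.card_zpowers, hx, card_L] at *
    have h1 : (251596800 : ℕ).factorization p = 1 := by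
      refine le_antisymm ?_ ?_
      · by_contra h
        exact hdvd ((hp.out.pow_dvd_iff_le_factorization (by norm_num)).2 (by omega))
      · exact (hp.out.dvd_iff_one_le_factorization (by norm_num)).1 hd
    rw [h1, pow_one]
  obtain ⟨P, hP⟩ := key g hg
  obtain ⟨P', hP'⟩ := key (elt w) ho
  obtain ⟨c, hc⟩ := MulAction.exists_smul_eq (↥(chevG2.group Q)) P P'
  have hmem : c * g * c⁻¹ ∈ Subgroup.zpowers (elt w) := by
    rw [← hP', ← hc, Sylow.coe_subgroup_smul, hP]
    exact Subgroup.smul_mem_pointwise_smul g (MulAut.conj c) _ (Subgroup.mem_zpowers g)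
  have hord : orderOf (c * g * c⁻¹) = p := by
    rw [← hg]
    exact orderOf_injective (MulAut.conj c).toMonoidHom (MulAut.conj c).injective g
  have hmem' : elt w ∈ Subgroup.zpowers (c * g * c⁻¹) := by
    have he : Subgroup.zpowers (c * g * c⁻¹) = Subgroup.zpowers (elt w) :=
      Subgroup.eq_of_le_of_card_ge (Subgroup.zpowers_le.2 hmem) (by rw [Nat.card_zpowers, Nat.card_zpowers, hord, ho])
    rw [he]; exact Subgroup.mem_zpowers _
  obtain ⟨k, hk⟩ := (isOfFinOrder_of_finite _).mem_powers_iff_mem_zpowers.2 hmem'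
  replace hk : (c * g * c⁻¹) ^ k = elt w := hk
  set u := (psi c : M6) *ᵥ v with hu
  have hgk : ∀ j : ℕ, (psi g : M6) ^ j *ᵥ v = v := by
    intro j
    induction j with
    | zero => simp
    | succ j ih => rw [pow_succ, ← mulVec_mulVec, hv, ih]
  have h1 : wm w *ᵥ u = u := by
    rw [wm, ← psi_elt hw, ← hk, conj_pow, map_mul, map_mul, Units.val_mul, Units.val_mul, map_pow,
      Units.val_pow_eq_pow_val, hu, mulVec_mulVec, mul_assoc, ← Units.val_mul (psi c⁻¹), ← map_mul,
      inv_mul_cancel, map_one, Units.val_one, mul_one, ← mulVec_mulVec, hgk k]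
  have h2 : u = 0 := by
    calc u = (R * (wm w - 1)) *ᵥ u := by rw [hR, one_mulVec]
      _ = 0 := by rw [← mulVec_mulVec, sub_mulVec, h1, one_mulVec, sub_self, mulVec_zero]
  calc v = ((psi c⁻¹ : M6) * (psi c : M6)) *ᵥ v := by
        rw [← Units.val_mul, ← map_mul, inv_mul_cancel, map_one, Units.val_one, one_mulVec]
    _ = 0 := by rw [← mulVec_mulVec, ← hu, h2, mulVec_zero]

theorem no_fixed {p : ℕ} (hp : p = 7 ∨ p = 13) {g : ↥(chevG2.group Q)} (hg : orderOf g = p)
    {v : Fin 6 → Q} (hv : (psi g : M6) *ᵥ v = v) : v = 0 := by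
  rcases hp with rfl | rfl
  · haveI : Fact (Nat.Prime 7) := ⟨by norm_num⟩
    exact fpf (by norm_num) (w := w7) (by decide) order7 (R := ofRows r7) (by decide +kernel) hg hv
  · haveI : Fact (Nat.Prime 13) := ⟨by norm_num⟩
    exact fpf (by norm_num) (w := w13) (by decide) order13 (R := ofRows r13) (by decide +kernel) hg hv

theorem primes_L {p : ℕ} (hp : p.Prime) (h : p ∣ 251596800) : p = 2 ∨ p = 3 ∨ p = 5 ∨ p = 7 ∨ p = 13 := by
  have h' : p ∣ 2 ^ 12 * (3 ^ 3 * (5 ^ 2 * (7 * 13))) := by norm_num; exact h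
  rcases (Nat.Prime.dvd_mul hp).1 h' with h' | h'
  · exact Or.inl ((Nat.prime_dvd_prime_iff_eq hp Nat.prime_two).1 (hp.dvd_of_dvd_pow h'))
  rcases (Nat.Prime.dvd_mul hp).1 h' with h' | h'
  · exact Or.inr (Or.inl ((Nat.prime_dvd_prime_iff_eq hp Nat.prime_three).1 (hp.dvd_of_dvd_pow h')))
  rcases (Nat.Prime.dvd_mul hp).1 h' with h' | h'
  · exact Or.inr (Or.inr (Or.inl ((Nat.prime_dvd_prime_iff_eq hp (by norm_num)).1 (hp.dvd_of_dvd_pow h'))))
  rcases (Nat.Prime.dvd_mul hp).1 h' with h' | h'
  · exact Or.inr (Or.inr (Or.inr (Or.inl ((Nat.prime_dvd_prime_iff_eq hp (by norm_num)).1 h'))))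
  · exact Or.inr (Or.inr (Or.inr (Or.inr ((Nat.prime_dvd_prime_iff_eq hp (by norm_num)).1 h'))))

/-- The module. -/
abbrev Mod (N : ℕ) : Type := Multiplicative (Fin N → Fin 6 → Q)

/-- The action on the module. -/
noncomputable def act (N : ℕ) : ↥(chevG2.group Q) →* MulAut (Mod N) where
  toFun g :=
    { toFun := fun v => Multiplicative.ofAdd fun n => (psi g : M6) *ᵥ v.toAdd n
      invFun := fun v => Multiplicative.ofAdd fun n => (psi g⁻¹ : M6) *ᵥ v.toAdd n
      left_inv := fun v => by
        apply Multiplicative.toAdd.injective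
        funext n
        simp only [toAdd_ofAdd, mulVec_mulVec, ← Units.val_mul, ← map_mul, inv_mul_cancel, map_one,
          Units.val_one, one_mulVec]
      right_inv := fun v => by
        apply Multiplicative.toAdd.injective
        funext n
        simp only [toAdd_ofAdd, mulVec_mulVec, ← Units.val_mul, ← map_mul, mul_inv_cancel, map_one,
          Units.val_one, one_mulVec]
      map_mul' := fun v w => by
        apply Multiplicative.toAdd.injective
        funext n
        simp only [toAdd_ofAdd, toAdd_mul, Pi.add_apply, mulVec_add] }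
  map_one' := by
    ext v : 1
    apply Multiplicative.toAdd.injective
    funext n
    simp
  map_mul' g h := by
    ext v : 1
    apply Multiplicative.toAdd.injective
    funext n
    simp [mulVec_mulVec]

/-- The extension. -/
abbrev Ext (N : ℕ) : Type := Mod N ⋊[act N] ↥(chevG2.group Q)

theorem card_mod (N : ℕ) : Nat.card (Mod N) = 2 ^ (12 * N) := by
  rw [Nat.card_congr Multiplicative.toAdd]
  simp only [Nat.card_eq_fintype_card, Fintype.card_fun, Fintype.card_fin, Q.card_eq]
  rw [← pow_mul, show (4 : ℕ) = 2 ^ 2 from rfl, ← pow_mul]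
  ring_nf

theorem card_ext (N : ℕ) : Nat.card (Ext N) = 2 ^ (12 * N) * 251596800 := by
  rw [SemidirectProduct.card, card_mod, card_L]

theorem mod_sq {N : ℕ} (v : Mod N) : v ^ 2 = 1 := by
  rw [pow_two]
  apply Multiplicative.toAdd.injective
  funext n i
  exact (by decide : ∀ x : Q, x + x = 0) _

theorem sameGraph (N : ℕ) : SameGraph ↥(chevG2.group Q) (Ext N) := by
  refine ⟨fun p hp => ?_, fun p q hp hq hne => ⟨?_, ?_⟩⟩
  · rw [card_ext, card_L]
    refine ⟨fun h => h.mul_left _, fun h => ?_⟩
    rcases (Nat.Prime.dvd_mul hp).1 h with h | h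
    · rw [(Nat.prime_dvd_prime_iff_eq hp Nat.prime_two).1 (hp.dvd_of_dvd_pow h)]; norm_num
    · exact h
  · rintro ⟨g, hg⟩
    exact ⟨SemidirectProduct.inr g, by rw [orderOf_injective _ SemidirectProduct.inr_injective, hg]⟩
  · rintro ⟨g, hg⟩
    set π : Ext N →* ↥(chevG2.group Q) := SemidirectProduct.rightHom with hπ
    have hker : ∀ x : Ext N, π x = 1 → x ^ 2 = 1 := fun x hx => by
      have : x = SemidirectProduct.inl x.left := SemidirectProduct.ext rfl hx
      rw [this, ← map_pow, mod_sq, map_one]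
    have h2 : g ^ (orderOf (π g) * 2) = 1 := by
      rw [pow_mul]; exact hker _ (by rw [map_pow, pow_orderOf_eq_one])
    have hdvd : p * q ∣ orderOf (π g) * 2 := hg ▸ orderOf_dvd_of_pow_eq_one h2
    have hdvd' : orderOf (π g) ∣ p * q := hg ▸ orderOf_map_dvd π g
    -- one prime is two and the other has a fixed vector
    have core : ∀ p q : ℕ, p.Prime → q.Prime → p ≠ q → orderOf g = p * q → orderOf (π g) = p →
        ∃ x : ↥(chevG2.group Q), orderOf x = p * q := by
      intro p q hp hq hne hg ho
      have hq2 : q = 2 := by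
        have h : p * q ∣ p * 2 := by
          rw [← hg]; exact orderOf_dvd_of_pow_eq_one (by rw [← ho]; exact h2)
        exact (Nat.prime_dvd_prime_iff_eq hq Nat.prime_two).1 (Nat.dvd_of_mul_dvd_mul_left hp.pos h)
      subst hq2
      set y := g ^ 2
      set v := g ^ p
      have hv : π v = 1 := by rw [map_pow, ← ho, pow_orderOf_eq_one]
      have hv1 : v ≠ 1 := fun h => by
        have := orderOf_dvd_of_pow_eq_one h
        rw [hg] at this
        have := Nat.le_of_dvd hp.pos this
        have := hp.pos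
        omega
      have hyo : orderOf (π y) = p := by
        rw [map_pow, orderOf_pow' _ two_ne_zero, ho, (Nat.coprime_primes hp Nat.prime_two).2 hne, Nat.div_one]
      have hcomm : y * v = v * y := (Commute.pow_pow (Commute.refl g) 2 p).eq
      have hfix : act N y.right v.left = v.left := by
        have e : v.right = 1 := hv
        have := congrArg SemidirectProduct.left hcomm
        rw [SemidirectProduct.mul_left, SemidirectProduct.mul_left, e, map_one, MulAut.one_apply,
          mul_comm] at this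
        exact mul_right_cancel this
      have hex : p = 3 ∨ p = 5 := by
        rcases primes_L hp (card_L ▸ hyo ▸ orderOf_dvd_natCard (π y)) with h | h | h | h
        · exact absurd h hne
        · exact Or.inl h
        · exact Or.inr h
        · exfalso
          refine hv1 (SemidirectProduct.ext ?_ hv)
          apply Multiplicative.toAdd.injective
          funext n
          exact no_fixed h hyo (congrFun (congrArg Multiplicative.toAdd hfix) n)
      rcases hex with rfl | rfl
      · exact ⟨elt w6, order_w6⟩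
      · exact ⟨elt w10, order_w10⟩
    rcases (Nat.dvd_mul.1 hdvd') with ⟨a, b, ha, hb, hab⟩
    rcases (Nat.dvd_prime hp).1 ha with rfl | rfl <;> rcases (Nat.dvd_prime hq).1 hb with rfl | rfl
    · exfalso
      rw [← hab] at hdvd
      have := Nat.le_of_dvd (by norm_num) hdvd
      nlinarith [hp.two_le, hq.two_le]
    · rw [one_mul] at hab
      rw [mul_comm] at hg ⊢
      exact core _ _ hq hp hne.symm hg hab.symm
    · rw [mul_one] at hab
      exact core _ _ hp hq hne hg hab.symm
    · exact ⟨π g, hab.symm⟩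

theorem lt_card_ext (N : ℕ) : N < Nat.card (Ext N) := by
  rw [card_ext]
  calc N < 2 ^ N := Nat.lt_two_pow_self
    _ ≤ 2 ^ (12 * N) := Nat.pow_le_pow_right (by norm_num) (by omega)
    _ ≤ _ := Nat.le_mul_of_pos_right _ (by norm_num)

universe u

/-- Transport to any field with four elements. -/
theorem exists_large {F : Type u} [Field F] [Fintype F] (hF : Fintype.card F = 4) (N : ℕ) :
    ∃ (H : Type) (_ : Group H) (_ : Finite H), N < Nat.card H ∧ SameGraph ↥(chevG2.group F) H := by
  set σ : F ≃+* Q := FiniteField.ringEquivOfCardEq (K := F) (K' := Q) (hF.trans Q.card_eq.symm)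
  set e : ↥(chevG2.group F) ≃* ↥(chevG2.group Q) :=
    ((chevG2.group F).equivMapOfInjective _ (glMap_injective chevG2 (σ : F →+* Q))).trans
      (MulEquiv.subgroupCongr (map_group_eq chevG2 (σ : F →+* Q) σ.surjective))
  refine ⟨Ext N, inferInstance, Finite.of_equiv _ SemidirectProduct.equivProd.symm, lt_card_ext N,
    fun p hp => ?_, fun p q hp hq hne => ?_⟩
  · rw [Nat.card_congr e.toEquiv]; exact (sameGraph N).1 p hp
  · rw [← (sameGraph N).2 p q hp hq hne]
    exact ⟨fun ⟨g, hg⟩ => ⟨e g, by rw [MulEquiv.orderOf_eq, hg]⟩, fun ⟨g, hg⟩ => ⟨e.symm g, by rw [MulEquiv.orderOf_eq, hg]⟩⟩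

end CfsgLib.G2Four
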