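import Cfsg.Agent.G2Four.Field
import Cfsg.Agent.Chev.InstSmall
import Cfsg.Agent.Chev.SimpleCert
import Cfsg.Agent.Chev.Simple
import Cfsg.Agent.Chev.Cover.Universal

/-!
# The six-dimensional representation of `G₂(4)`

The pairs `(g, M)` with `M` symplectic and conjugating the realisation of the adjoint module inside
the `6 × 6` matrices compatibly with `g` form a group; it is the graph of the representation.
-/

set_option autoImplicit false
set_option maxRecDepth 100000

namespace CfsgLib.G2Four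

open Cfsg.Lie CfsgLib.Chev Matrix

/-- Six by six matrices over the field with four elements. -/
abbrev M6 := Matrix (Fin 6) (Fin 6) Q

/-- The realisation of the adjoint module: `(vector, row, column)`. -/
def ioL : List (ℕ × ℕ × ℕ) := [(0, 0, 0), (0, 1, 1), (0, 4, 4), (0, 5, 5), (1, 1, 1), (1, 2, 2), (1, 3, 3), (1, 4, 4), (2, 0, 4), (2, 1, 5), (3, 0, 3), (3, 2, 5), (4, 1, 3), (4, 2, 4), (5, 0, 2), (5, 3, 5), (6, 0, 1), (6, 4, 5), (7, 1, 2), (7, 3, 4), (8, 2, 1), (8, 4, 3), (9, 1, 0), (9, 5, 4), (10, 2, 0), (10, 5, 3), (11, 3, 1), (11, 4, 2), (12, 3, 0), (12, 5, 2), (13, 4, 0), (13, 5, 1)]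

/-- The off-diagonal terms `(row, column, power)` of the root elements. -/
def mL : List (List (ℕ × ℕ × ℕ)) := [[(0, 4, 1), (1, 5, 1)], [(0, 3, 1), (2, 5, 1)], [(1, 3, 1), (2, 4, 1), (0, 5, 2)], [(0, 2, 1), (1, 4, 2), (3, 5, 1)], [(0, 1, 1), (2, 3, 2), (4, 5, 1)], [(1, 2, 1), (3, 4, 1)], [(2, 1, 1), (4, 3, 1)], [(1, 0, 1), (3, 2, 2), (5, 4, 1)], [(2, 0, 1), (4, 1, 2), (5, 3, 1)], [(5, 0, 2), (3, 1, 1), (4, 2, 1)], [(3, 0, 1), (5, 2, 1)], [(4, 0, 1), (5, 1, 1)]]

/-- The pairs of the symplectic form. -/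
def jL : List (ℕ × ℕ) := [(0, 5), (1, 4), (2, 3), (3, 2), (4, 1), (5, 0)]

/-- Sums of products of realised vectors giving the matrix units. -/
def unitL : List (List (List ℕ)) := [[[0, 3, 12]], [[1, 6], [6]], [[0, 5]], [[0, 3]], [[1, 2], [2]], [[2, 6]], [[1, 9]], [[0, 3, 12], [2, 13]], [[0, 7]], [[0, 4]], [[2, 9]], [[1, 2]], [[0, 10], [10]], [[0, 8], [8]], [[0, 3, 12], [3, 12]], [[3, 10]], [[0, 4], [4]], [[0, 3], [3]], [[0, 12], [12]], [[0, 11], [11]], [[5, 12]], [[], [0], [0, 3, 12], [3, 12]], [[0, 7], [7]], [[0, 5], [5]], [[1, 13]], [[6, 13]], [[0, 11]], [[0, 8]], [[], [0], [0, 3, 12], [1], [2, 13]], [[1, 6]], [[9, 13]], [[1, 13], [13]], [[0, 12]], [[0, 10]], [[1, 9], [9]], [[], [0, 3, 12], [1]]]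

/-- The word of order 13. -/
def w13 : List (ℕ × Q) := [(6, .e), (4, .e), (7, .a), (5, .b)]

/-- The word of order 7. -/
def w7 : List (ℕ × Q) := [(4, .b), (6, .a), (5, .b), (7, .a)]

/-- The word of order 6. -/
def w6 : List (ℕ × Q) := [(4, .a), (5, .e), (6, .e)]

/-- The word of order 10. -/
def w10 : List (ℕ × Q) := [(6, .a), (4, .b), (5, .a)]

/-- The inverse of the word of order 13 less the identity. -/
def r13 : List (List Q) := [[.z, .b, .z, .b, .z, .e], [.e, .e, .z, .z, .z, .z], [.z, .z, .z, .a, .z, .b], [.e, .z, .e, .e, .z, .z], [.z, .z, .z, .z, .z, .b], [.e, .z, .e, .z, .e, .e]]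

/-- The inverse of the word of order 7 less the identity. -/
def r7 : List (List Q) := [[.z, .b, .z, .b, .z, .e], [.a, .e, .z, .z, .z, .z], [.z, .z, .z, .a, .z, .b], [.a, .z, .b, .e, .z, .z], [.z, .z, .z, .z, .z, .b], [.e, .z, .a, .z, .a, .e]]

/-- A matrix from its rows. -/
def ofRows (R : List (List Q)) : M6 := Matrix.of fun i j => (R.getD i.val []).getD j.val 0

/-- The code of a basis vector. -/
def code : chevG2.Idx → ℕ := Sum.elim (fun i => i.val) (fun s => 2 + s.val)

/-- The basis vectors in order. -/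
def ixs : List chevG2.Idx := (List.finRange _).map Sum.inl ++ (List.finRange _).map Sum.inr

/-- The image of a basis vector. -/
def io (p : chevG2.Idx) : M6 := Matrix.of fun i j => if (code p, i.val, j.val) ∈ ioL then 1 else 0

/-- The image of a basis vector by code. -/
def ioC (c : ℕ) : M6 := ((ixs[c]?).map io).getD 0

/-- The image of a vector. -/
def phi (v : chevG2.Idx → Q) : M6 := Matrix.of fun i j => ∑ p, v p * io p i j

/-- The matrix of a root element. -/
def mr (r : ℕ) (t : Q) : M6 := Matrix.of fun i j =>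
  (if i = j then 1 else 0) + (((mL.getD r []).filter fun x => x.1 == i.val && x.2.1 == j.val).map fun x => t ^ x.2.2).sum

/-- The matrix of the form. -/
def jm : M6 := Matrix.of fun i j => if (i.val, j.val) ∈ jL then 1 else 0

theorem mr_sq : ∀ r : Fin 12, ∀ t : Q, mr r t * mr r t = 1 := by decide +kernel

theorem mr_form : ∀ r : Fin 12, ∀ t : Q, (mr r t)ᵀ * jm * mr r t = jm := by decide +kernel

theorem mr_equiv : ∀ r : Fin 12, ∀ t : Q, ∀ a : chevG2.Idx,
    mr r t * io a = phi (fun p => chevG2.x Q r t p a) * mr r t := by decide +kernel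

theorem jm_sq : jm * jm = 1 := by decide +kernel

theorem units_eq : ∀ i j : Fin 6, (((unitL.getD (6 * i.val + j.val) []).map fun w => (w.map ioC).prod).sum) =
    Matrix.single i j (1 : Q) := by decide +kernel

theorem phi_eq (v : chevG2.Idx → Q) : phi v = ∑ p, v p • io p := by
  ext i j
  simp [phi, Matrix.sum_apply]

/-- The defining conditions. -/
def IsPair (g : GL chevG2.Idx Q) (M : GL (Fin 6) Q) : Prop :=
  ((M : M6)ᵀ * jm * M = jm) ∧
    ∀ v, (M : M6) * phi v = phi ((g : Matrix chevG2.Idx chevG2.Idx Q) *ᵥ v) * M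

theorem isPair_mul {g h : GL chevG2.Idx Q} {M N : GL (Fin 6) Q} (h1 : IsPair g M) (h2 : IsPair h N) :
    IsPair (g * h) (M * N) := by
  refine ⟨?_, fun v => ?_⟩
  · rw [Units.val_mul, transpose_mul, show (N : M6)ᵀ * (M : M6)ᵀ * jm * ((M : M6) * N) =
      (N : M6)ᵀ * ((M : M6)ᵀ * jm * M) * N by simp only [mul_assoc], h1.1, h2.1]
  · rw [Units.val_mul, Units.val_mul, ← mulVec_mulVec, mul_assoc, h2.2, ← mul_assoc, h1.2, mul_assoc]

theorem isPair_one : IsPair 1 1 := ⟨by simp, fun v => by simp⟩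

theorem isPair_inv {g : GL chevG2.Idx Q} {M : GL (Fin 6) Q} (h : IsPair g M) : IsPair g⁻¹ M⁻¹ := by
  refine ⟨?_, fun v => ?_⟩
  · conv_lhs => rw [← h.1]
    rw [show ((M⁻¹ : GL (Fin 6) Q) : M6)ᵀ * ((M : M6)ᵀ * jm * M) * ((M⁻¹ : GL (Fin 6) Q) : M6) =
      (((M⁻¹ : GL (Fin 6) Q) : M6)ᵀ * (M : M6)ᵀ) * jm * ((M : M6) * ((M⁻¹ : GL (Fin 6) Q) : M6)) by
        simp only [mul_assoc], ← transpose_mul, ← Units.val_mul, mul_inv_cancel, Units.val_one, transpose_one,
      one_mul, mul_one]
  · have := h.2 (((g⁻¹ : GL chevG2.Idx Q) : Matrix chevG2.Idx chevG2.Idx Q) *ᵥ v)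
    rw [mulVec_mulVec, ← Units.val_mul, mul_inv_cancel, Units.val_one, one_mulVec] at this
    calc ((M⁻¹ : GL (Fin 6) Q) : M6) * phi v
        = ((M⁻¹ : GL (Fin 6) Q) : M6) * (phi v * (M : M6)) * ((M⁻¹ : GL (Fin 6) Q) : M6) := by
          rw [mul_assoc, mul_assoc, ← Units.val_mul M, mul_inv_cancel, Units.val_one, mul_one]
      _ = _ := by
          rw [← this, ← mul_assoc, ← Units.val_mul, inv_mul_cancel, Units.val_one, one_mul]

theorem nroots_eq : chevG2.nroots = 12 := by decide +kernel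

/-- The root element of the representation. -/
def mu (r : Fin 12) (t : Q) : GL (Fin 6) Q := ⟨mr r t, mr r t, mr_sq r t, mr_sq r t⟩

theorem isPair_gen (r : Fin 12) (t : Q) : IsPair (sysG2.xU r.val t) (mu r t) := by
  refine ⟨mr_form r t, fun v => ?_⟩
  show mr r t * phi v = _
  rw [Sys.coe_xU, phi_eq, phi_eq, Finset.mul_sum]
  simp only [mul_smul_comm, mr_equiv r t, phi_eq, Finset.sum_mul, smul_mul_assoc, Finset.smul_sum,
    smul_smul, mulVec, dotProduct, Finset.sum_smul]
  rw [Finset.sum_comm]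
  exact Finset.sum_congr rfl fun p _ => Finset.sum_congr rfl fun q _ => by rw [mul_comm]; rfl

theorem exists_pair (g : chevG2.group Q) : ∃ M, IsPair (g : GL chevG2.Idx Q) M := by
  obtain ⟨g, hg⟩ := g
  show ∃ M, IsPair g M
  induction hg using Subgroup.closure_induction with
  | mem y hy =>
    obtain ⟨r, t, hy⟩ := hy
    refine ⟨mu ⟨r.val, lt_of_lt_of_eq r.2 nroots_eq⟩ t, ?_⟩
    convert isPair_gen ⟨r.val, lt_of_lt_of_eq r.2 nroots_eq⟩ t using 1
    apply Units.ext
    rw [hy, Sys.coe_xU, ChevalleyDatum.x, dif_pos r.2]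
  | one => exact ⟨1, isPair_one⟩
  | mul _ _ _ _ h1 h2 => exact ⟨_, isPair_mul h1.choose_spec h2.choose_spec⟩
  | inv _ _ h => exact ⟨_, isPair_inv h.choose_spec⟩

theorem pair_one_unique {M : GL (Fin 6) Q} (h : IsPair 1 M) : M = 1 := by
  have hio : ∀ p, (M : M6) * io p = io p * M := fun p => by
    have := h.2 (Pi.single p 1)
    rwa [Units.val_one, one_mulVec, show phi (Pi.single p (1 : Q)) = io p by
      rw [phi_eq]; simp [Pi.single_apply, ite_smul]] at this
  have hioC : ∀ c, Commute (M : M6) (ioC c) := fun c => by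
    rw [ioC]
    cases ixs[c]? with
    | none => exact Commute.zero_right _
    | some p => exact hio p
  have hs : ∀ i j : Fin 6, (M : M6) * Matrix.single i j 1 = Matrix.single i j 1 * (M : M6) := fun i j => by
    rw [← units_eq i j]
    refine Commute.list_sum_right _ _ fun x hx => ?_
    obtain ⟨w, -, rfl⟩ := List.mem_map.1 hx
    refine Commute.list_prod_right _ _ fun y hy => ?_
    obtain ⟨c, -, rfl⟩ := List.mem_map.1 hy
    exact hioC c
  have hoff : ∀ k i : Fin 6, (M : M6) k i = if k = i then (M : M6) 0 0 else 0 := fun k i => by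
    have h1 := congrFun (congrFun (hs i 0) k) 0
    rw [Matrix.mul_single_apply_same, mul_one] at h1
    rw [h1]
    by_cases e : k = i
    · subst e
      rw [if_pos rfl, Matrix.single_mul_apply_same, one_mul]
    · rw [if_neg e, Matrix.single_mul_apply_of_ne _ _ _ _ _ e]
  set c := (M : M6) 0 0
  have hM : (M : M6) = c • (1 : M6) := by
    ext k i; rw [hoff, Matrix.smul_apply, Matrix.one_apply]; simp
  have h1 := h.1
  rw [hM, transpose_smul, transpose_one, smul_mul_assoc, one_mul, smul_mul_assoc, mul_smul_comm, mul_one,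
    smul_smul] at h1
  have hcc : c * c = 1 := by
    have := congrArg (fun X => (X * jm) 0 0) h1
    simpa [smul_mul_assoc, jm_sq] using this
  have hc : c = 1 := (by decide : ∀ x : Q, x * x = 1 → x = 1) c hcc
  apply Units.ext
  rw [hM, hc, one_smul]
  rfl

theorem pair_unique {g : GL chevG2.Idx Q} {M N : GL (Fin 6) Q} (h1 : IsPair g M) (h2 : IsPair g N) : M = N := by
  have := pair_one_unique (M := N⁻¹ * M) (by
    have := isPair_mul (isPair_inv h2) h1
    rwa [inv_mul_cancel] at this)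
  exact (inv_mul_eq_one.1 this).symm

/-- The representation. -/
noncomputable def psi : chevG2.group Q →* GL (Fin 6) Q :=
  MonoidHom.mk' (fun g => (exists_pair g).choose) fun g h =>
    pair_unique (exists_pair (g * h)).choose_spec
      (isPair_mul (exists_pair g).choose_spec (exists_pair h).choose_spec)

theorem psi_eq {g : chevG2.group Q} {M : GL (Fin 6) Q} (h : IsPair (g : GL chevG2.Idx Q) M) : psi g = M :=
  pair_unique (exists_pair g).choose_spec h

/-- The element of a word. -/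
noncomputable def elt (w : List (ℕ × Q)) : chevG2.group Q := (w.map fun p => sysG2.xg p.1 p.2).prod

theorem psi_elt {w : List (ℕ × Q)} (hw : ∀ p ∈ w, p.1 < 12) :
    (psi (elt w) : M6) = (w.map fun p => mr p.1 p.2).prod := by
  induction w with
  | nil => simp [elt]
  | cons p w ih =>
    rw [show elt (p :: w) = sysG2.xg p.1 p.2 * elt w by simp [elt], map_mul, Units.val_mul,
      ih fun q hq => hw q (List.mem_cons_of_mem _ hq), List.map_cons, List.prod_cons,
      psi_eq (g := sysG2.xg p.1 p.2) (isPair_gen ⟨p.1, hw p (List.mem_cons_self ..)⟩ p.2)]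
    rfl

end CfsgLib.G2Four
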